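import Groth.Agent.PointBlowUp.Basic
import Groth.Agent.BlowUpLib.Glue
import Groth.Agent.Div21Lib.Stalks
import Groth.Agent.AlgSpDec.MonoPoint
import Groth.Agent.P1Split.Basic
import Groth.Agent.S14357
import Groth.Agent.S1680
import Groth.Agent.S4366
import Groth.Prelude.Def_CurvBase
import Mathlib

/-!
# The fibre of a point blow-up of a regular surface
-/

noncomputable section

set_option autoImplicit false
set_option linter.style.haveILetI false
set_option backward.isDefEq.respectTransparency false
set_option backward.isDefEq.respectTransparency.types false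
set_option maxHeartbeats 1000000

universe u

open CategoryTheory CategoryTheory.Limits AlgebraicGeometry TopologicalSpace Opposite IsLocalRing

namespace Groth.Agent.ContractUP

open Groth.Agent.PointBlowUp Groth.Agent.BlowUpLib

/-- In a ring generated by one element over a local ring, a non-maximal prime over the maximal ideal is least. -/
theorem prime_le_of_lt {A B : Type u} [CommRing A] [IsLocalRing A] [CommRing B] (ψ : Polynomial A →+* B)
    (hψ : Function.Surjective ψ) {P Q R : Ideal B} [P.IsPrime] [Q.IsPrime] [R.IsPrime] (hPQ : P < Q)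
    (hP : ∀ a ∈ maximalIdeal A, ψ (Polynomial.C a) ∈ P) (hR : ∀ a ∈ maximalIdeal A, ψ (Polynomial.C a) ∈ R) :
    P ≤ R := by
  let q : Polynomial A →+* Polynomial (ResidueField A) := Polynomial.mapRingHom (residue A)
  have hq : Function.Surjective q := Polynomial.map_surjective _ residue_surjective
  have hker : ∀ (T : Ideal B), (∀ a ∈ maximalIdeal A, ψ (Polynomial.C a) ∈ T) → RingHom.ker q ≤ T.comap ψ := by
    intro T hT
    rw [Polynomial.ker_mapRingHom, ker_residue]
    exact Ideal.map_le_iff_le_comap.mpr hT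
  have hc : ∀ (T : Ideal B), (∀ a ∈ maximalIdeal A, ψ (Polynomial.C a) ∈ T) → ((T.comap ψ).map q).comap q = T.comap ψ :=
    fun T hT => by
      rw [Ideal.comap_map_of_surjective q hq, ← RingHom.ker_eq_comap_bot, sup_eq_left]
      exact hker T hT
  have hQ : ∀ a ∈ maximalIdeal A, ψ (Polynomial.C a) ∈ Q := fun a ha => hPQ.le (hP a ha)
  haveI := Ideal.map_isPrime_of_surjective hq (hker P hP)
  haveI := Ideal.map_isPrime_of_surjective hq (hker Q hQ)
  have h0 : (P.comap ψ).map q = ⊥ := by
    by_contra hne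
    have hmax : ((P.comap ψ).map q).IsMaximal := IsPrime.to_maximal_ideal hne
    have heq : (P.comap ψ).map q = (Q.comap ψ).map q :=
      hmax.eq_of_le (Ideal.IsPrime.ne_top inferInstance) (Ideal.map_mono (Ideal.comap_mono hPQ.le))
    have := congrArg (Ideal.comap q) heq
    rw [hc P hP, hc Q hQ] at this
    exact hPQ.ne (Ideal.comap_injective_of_surjective ψ hψ this)
  intro b hb
  obtain ⟨p, rfl⟩ := hψ b
  have : q p ∈ (P.comap ψ).map q := Ideal.mem_map_of_mem q hb
  rw [h0, Submodule.mem_bot] at this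
  exact hker R hR this

variable (A : Type u) [CommRing A] [IsRegularLocalRing A]

/-- The fibre of the blow-up in the maximal ideal is the closure of a non-closed point in every chart. -/
theorem specializes_of_chart {a b : maximalIdeal A} (hab : Ideal.span {(a : A), (b : A)} = maximalIdeal A)
    {η w z : Z A} (hηU : η ∈ (chart (maximalIdeal A) a).opensRange) (hwU : w ∈ (chart (maximalIdeal A) a).opensRange)
    (hzU : z ∈ (chart (maximalIdeal A) a).opensRange) (hηw : η ⤳ w) (hne : η ≠ w)
    (hη : toA A η = closedPoint A) (hz : toA A z = closedPoint A) : η ⤳ z := by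
  let U := (chart (maximalIdeal A) a).opensRange
  have hU : IsAffineOpen U := isAffineOpen_opensRange _
  let sc : A →+* Γ(Z A, U) := ((Z A).presheaf.map (homOfLE (le_top : U ≤ ⊤)).op).hom.comp (scal A)
  let ψ : Polynomial A →+* Γ(Z A, U) := Polynomial.eval₂RingHom sc (fracSec a b)
  have hψ : Function.Surjective ψ := by
    intro y
    have hle : Subring.closure (Set.range sc ∪ {fracSec a b}) ≤ ψ.range := by
      rw [Subring.closure_le]
      rintro _ (⟨r, rfl⟩ | rfl)
      · exact ⟨Polynomial.C r, Polynomial.eval₂_C _ _⟩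
      · exact ⟨Polynomial.X, Polynomial.eval₂_X _ _⟩
    exact hle ((chartHom_generated a b hab).ge (Subring.mem_top y))
  have hmem : ∀ (x : Z A) (hx : x ∈ U), toA A x = closedPoint A →
      ∀ r ∈ maximalIdeal A, ψ (Polynomial.C r) ∈ (hU.primeIdealOf ⟨x, hx⟩).asIdeal := by
    intro x hx hxc r hr
    rw [show ψ (Polynomial.C r) = sc r from Polynomial.eval₂_C _ _]
    by_contra hnot
    have hb : hU.fromSpec (hU.primeIdealOf ⟨x, hx⟩) ∈ (Z A).basicOpen (sc r) := by
      rw [← Scheme.Hom.mem_preimage, hU.fromSpec_preimage_basicOpen]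
      exact hnot
    rw [hU.fromSpec_primeIdealOf] at hb
    have hb' : x ∈ (Z A).basicOpen (scal A r) := by
      rw [show sc r = (Z A).presheaf.map (homOfLE (le_top : U ≤ ⊤)).op (scal A r) from rfl,
        Scheme.basicOpen_res] at hb
      exact hb.2
    have he : (Z A).basicOpen (scal A r) = toA A ⁻¹ᵁ (Spec (CommRingCat.of A)).basicOpen
        ((Scheme.ΓSpecIso (CommRingCat.of A)).inv r) := (Scheme.preimage_basicOpen_top (toA A) _).symm
    rw [he, Scheme.Hom.mem_preimage, hxc, basicOpen_eq_of_affine] at hb'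
    exact hb' hr
  let p := fun (x : Z A) (hx : x ∈ U) => hU.primeIdealOf ⟨x, hx⟩
  have hsp : ∀ (x y : Z A) (hx : x ∈ U) (hy : y ∈ U), x ⤳ y ↔ (p x hx).asIdeal ≤ (p y hy).asIdeal := fun x y hx hy => by
    rw [PrimeSpectrum.asIdeal_le_asIdeal, PrimeSpectrum.le_iff_specializes,
      ← hU.fromSpec.isOpenEmbedding.isInducing.specializes_iff, hU.fromSpec_primeIdealOf, hU.fromSpec_primeIdealOf]
  refine (hsp η z hηU hzU).mpr (prime_le_of_lt ψ hψ (Q := (p w hwU).asIdeal) ?_ (hmem η hηU hη) (hmem z hzU hz))
  refine lt_of_le_of_ne ((hsp η w hηU hwU).mp hηw) fun h => hne ?_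
  have := congrArg hU.fromSpec (PrimeSpectrum.ext h)
  rwa [hU.fromSpec_primeIdealOf, hU.fromSpec_primeIdealOf] at this

/-- A projective line in the fibre fills the fibre. -/
theorem fibre_subset_range (hA : ringKrullDim A = 2) {X : Scheme.{u}} (b : X ⟶ Spec (CommRingCat.of A))
    (hb : BlowUp.IsBlowUp b (Curv2.idealSheaf A (maximalIdeal A))) {E : Scheme.{u}} (ι : E ⟶ X) [IsClosedImmersion ι]
    (k : Type u) [Field k] (e : CohB1.ProjSpace 1 k ≅ E) (hE : ∀ t, b (ι t) = closedPoint A) :
    b ⁻¹' {closedPoint A} ⊆ Set.range ι := by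
  obtain ⟨g, hg⟩ := exists_iso hb (isBlowUp_local (maximalIdeal A))
  let j : CohB1.ProjSpace 1 k ⟶ Z A := e.hom ≫ ι ≫ g.hom
  haveI : IsClosedImmersion j := inferInstance
  have hj : ∀ t, toA A (j t) = closedPoint A := fun t => by
    show (g.hom ≫ toA A) (ι (e.hom t)) = _
    rw [show g.hom ≫ toA A = b from hg]
    exact hE _
  suffices h : ∀ z, toA A z = closedPoint A → z ∈ Set.range j by
    intro x hx
    obtain ⟨t, ht⟩ := h (g.hom x) (by
      show (g.hom ≫ toA A) x = _
      rw [show g.hom ≫ toA A = b from hg]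
      exact hx)
    exact ⟨e.hom t, g.hom.isOpenEmbedding.injective ht⟩
  obtain ⟨x, y, -, -, hxy⟩ := exists_params A hA
  let a : maximalIdeal A := ⟨x, hxy ▸ Ideal.subset_span (Set.mem_insert _ _)⟩
  let c : maximalIdeal A := ⟨y, hxy ▸ Ideal.subset_span (Set.mem_insert_of_mem _ rfl)⟩
  have hyx : Ideal.span {(c : A), (a : A)} = maximalIdeal A := (congrArg Ideal.span (Set.pair_comm _ _)).trans hxy
  haveI : JacobsonSpace (CohB1.ProjSpace 1 k : Scheme.{u}) :=
    LocallyOfFiniteType.jacobsonSpace (CohB1.ProjSpace.toSpec 1 k)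
  let η := genericPoint (CohB1.ProjSpace 1 k : Scheme.{u})
  have hηc : ¬ IsClosed ({η} : Set (CohB1.ProjSpace 1 k : Scheme.{u})) := fun hcl => by
    have hu : (Set.univ : Set (CohB1.ProjSpace 1 k : Scheme.{u})) = {η} := by
      rw [← hcl.closure_eq]
      exact (genericPoint_spec _).def.symm
    haveI : Subsingleton (CohB1.ProjSpace 1 k : Scheme.{u}) :=
      ⟨fun p q => ((hu.le (Set.mem_univ p)) : p = η).trans ((hu.le (Set.mem_univ q)) : q = η).symm⟩
    have h1 := P1Split.dim_eq k
    haveI : Subsingleton (IrreducibleCloseds (CohB1.ProjSpace 1 k : Scheme.{u})) := ⟨fun p q =>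
      IrreducibleCloseds.ext ((Set.subsingleton_of_subsingleton.eq_singleton_of_mem
        p.isIrreducible.nonempty.some_mem).trans
          ((congrArg _ (Subsingleton.elim _ _)).trans (Set.subsingleton_of_subsingleton.eq_singleton_of_mem
            q.isIrreducible.nonempty.some_mem).symm))⟩
    have h2 : topologicalKrullDim (CohB1.ProjSpace 1 k : Scheme.{u}) ≤ 0 := Order.krullDim_nonpos_of_subsingleton
    rw [h1] at h2
    exact absurd h2 zero_lt_one.not_ge
  have key : ∀ {u v : maximalIdeal A}, Ideal.span {(u : A), (v : A)} = maximalIdeal A →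
      (j ⁻¹ᵁ (chart (maximalIdeal A) u).opensRange : (CohB1.ProjSpace 1 k).Opens) ≠ ⊥ →
      ∀ z ∈ (chart (maximalIdeal A) u).opensRange, toA A z = closedPoint A → z ∈ Set.range j := by
    intro u v huv hne z hzU hz
    obtain ⟨t, ht⟩ : ((j ⁻¹ᵁ (chart (maximalIdeal A) u).opensRange : (CohB1.ProjSpace 1 k).Opens) :
        Set (CohB1.ProjSpace 1 k : Scheme.{u})).Nonempty := by
      rwa [Set.nonempty_iff_ne_empty, ne_eq, Opens.coe_eq_empty]
    obtain ⟨w, hwU, hwc⟩ := nonempty_inter_closedPoints ⟨t, ht⟩
      (j ⁻¹ᵁ (chart (maximalIdeal A) u).opensRange).2.isLocallyClosed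
    have hηw : η ⤳ w := genericPoint_specializes w
    have hne' : j η ≠ j w := fun h => hηc (by
      rw [j.isClosedEmbedding.injective h]
      exact hwc)
    have hηU : j η ∈ (chart (maximalIdeal A) u).opensRange :=
      (hηw.map j.continuous).mem_open (chart (maximalIdeal A) u).opensRange.2 hwU
    have hsp := specializes_of_chart A huv hηU hwU hzU (hηw.map j.continuous) hne' (hj η) hz
    exact hsp.mem_closed j.isClosedEmbedding.isClosed_range ⟨η, rfl⟩
  have hboth : ∀ {u v : maximalIdeal A}, Ideal.span {(u : A), (v : A)} = maximalIdeal A →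
      (j ⁻¹ᵁ (chart (maximalIdeal A) u).opensRange : (CohB1.ProjSpace 1 k).Opens) ≠ ⊥ := by
    intro u v huv hbot
    let V := (chart (maximalIdeal A) v).opensRange
    haveI : IsAffine (V : Scheme.{u}) := isAffineOpen_opensRange (chart (maximalIdeal A) v)
    have hV : Set.range j ⊆ Set.range V.ι := by
      rintro _ ⟨t, rfl⟩
      rw [Scheme.Opens.range_ι]
      have hcov : j t ∈ (chart (maximalIdeal A) u).opensRange ⊔ V := by
        rw [chart_covers_two u v huv]; trivial
      rcases hcov with h | h
      · exact absurd (show t ∈ j ⁻¹ᵁ (chart (maximalIdeal A) u).opensRange from h) (by rw [hbot]; exact id)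
      · exact h
    let j' := IsOpenImmersion.lift V.ι j hV
    haveI : IsClosedImmersion j' := by
      haveI : IsClosedImmersion (j' ≫ V.ι) := by rwa [IsOpenImmersion.lift_fac]
      exact IsClosedImmersion.of_comp j' V.ι
    exact S14357.result k (isAffine_of_isAffineHom j')
  intro z hz
  have hcov : z ∈ (chart (maximalIdeal A) a).opensRange ⊔ (chart (maximalIdeal A) c).opensRange := by
    rw [chart_covers_two a c hxy]; trivial
  rcases hcov with h | h
  · exact key (v := c) hxy (hboth (v := c) hxy) z h hz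
  · exact key (v := a) hyx (hboth (v := a) hyx) z h hz

end Groth.Agent.ContractUP
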