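import Groth.Agent.ContractUP.Basic
import Groth.Agent.ContractUP.Fibre
import Groth.Agent.ZarConn.AppIso
import Groth.Agent.H23.FinCondSch
import Groth.Agent.RegLoc6.Normal
import Groth.Agent.S1682
import Groth.Agent.S2348
import Groth.Prelude.Def_Models
import Mathlib

/-!
# The universal property of a contraction
-/

noncomputable section

set_option autoImplicit false
set_option linter.style.haveILetI false
set_option backward.isDefEq.respectTransparency false
set_option backward.isDefEq.respectTransparency.types false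
set_option maxHeartbeats 1000000

universe u

open CategoryTheory CategoryTheory.Limits AlgebraicGeometry TopologicalSpace Opposite IsLocalRing

namespace Groth.Agent.ContractUP

variable {X' : Scheme.{u}}

/-- The reduced ideal of a closed point becomes the maximal ideal on the local scheme. -/
theorem comap_vanishingIdeal_point (y : X') (hy : IsClosed ({y} : Set X')) :
    (Scheme.IdealSheafData.vanishingIdeal ⟨{y}, hy⟩).comap (X'.fromSpecStalk y) =
      Curv2.idealSheaf (X'.presheaf.stalk y) (maximalIdeal (X'.presheaf.stalk y)) := by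
  let J := Scheme.IdealSheafData.vanishingIdeal (⟨{y}, hy⟩ : Closeds X')
  have hst : Div21Lib.st J y = maximalIdeal (X'.presheaf.stalk y) := by
    obtain ⟨_, ⟨U, hU, rfl⟩, hyU, -⟩ :=
      X'.isBasis_affineOpens.exists_subset_of_mem_open (Set.mem_univ y) isOpen_univ
    rw [Div21Lib.st_eq J ⟨U, hU⟩ hyU, CDivEq.stk]
    have hp : J.ideal ⟨U, hU⟩ = (IsAffineOpen.primeIdealOf hU ⟨y, hyU⟩).asIdeal := by
      rw [Scheme.IdealSheafData.vanishingIdeal_ideal, ← PrimeSpectrum.vanishingIdeal_singleton]
      congr 1
      ext q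
      constructor
      · intro hq
        exact (IsAffineOpen.fromSpec hU).isOpenEmbedding.injective
          ((show (IsAffineOpen.fromSpec hU) q = y from hq).trans (IsAffineOpen.fromSpec_primeIdealOf hU ⟨y, hyU⟩).symm)
      · intro hq
        show (IsAffineOpen.fromSpec hU) q = y
        rw [show q = _ from hq]
        exact IsAffineOpen.fromSpec_primeIdealOf hU ⟨y, hyU⟩
    rw [hp]
    letI := TopCat.Presheaf.algebra_section_stalk X'.presheaf (⟨y, hyU⟩ : U)
    haveI := IsAffineOpen.isLocalization_stalk hU ⟨y, hyU⟩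
    exact IsLocalization.AtPrime.map_eq_maximalIdeal _ (X'.presheaf.stalk y)
  refine Scheme.IdealSheafData.ext_of_isAffine ?_
  rw [Div21Lib.ideal_comap_fromSpecStalk, hst, Curv2.idealSheaf, Scheme.IdealSheafData.ofIdealTop_ideal]
  erw [(Spec (X'.presheaf.stalk y)).presheaf.map_id, Ideal.map_id]
  rfl

variable {E X : Scheme.{u}} (ι : E ⟶ X) [IsClosedImmersion ι] (b : X ⟶ X')

/-- The fibre over the centre is the contracted line. -/
theorem fibre_eq (y : X') (hy : IsClosed ({y} : Set X')) [IsRegularLocalRing (X'.presheaf.stalk y)]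
    (hdim : ringKrullDim (X'.presheaf.stalk y) = 2)
    (hb : BlowUp.IsBlowUp b (Scheme.IdealSheafData.vanishingIdeal ⟨{y}, hy⟩))
    (hι : ∀ t, b (ι t) = y) (k : Type u) [Field k] (e : CohB1.ProjSpace 1 k ≅ E) :
    b ⁻¹' {y} ⊆ Set.range ι := by
  let g := X'.fromSpecStalk y
  haveI : Flat g := S4366.flat_fromSpecStalk y
  have hbl := S1680.result g _ b hb
  rw [comap_vanishingIdeal_point y hy] at hbl
  haveI := P1Split.isIntegral k
  haveI : IsReduced (CohB1.ProjSpace 1 k : Scheme.{u}) := inferInstance
  haveI : IsReduced E := isReduced_of_isOpenImmersion e.inv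
  obtain ⟨l, hl⟩ := AlgSpDec.exists_factor_residueField (ι ≫ b) y hι
  let lE : E ⟶ pullback g b := pullback.lift (l ≫ Spec.map (X'.residue y)) ι (by
    rw [Category.assoc]
    exact hl)
  haveI : IsClosedImmersion (lE ≫ pullback.snd g b) := by
    rw [pullback.lift_snd]; infer_instance
  haveI : IsClosedImmersion lE := IsClosedImmersion.of_comp lE (pullback.snd g b)
  have hclosed : ∀ p, g p = y → p = closedPoint (X'.presheaf.stalk y) := fun p hp =>
    g.isEmbedding.injective (hp.trans Scheme.fromSpecStalk_closedPoint.symm)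
  have hE : ∀ t, pullback.fst g b (lE t) = closedPoint (X'.presheaf.stalk y) := fun t => hclosed _ (by
    show (lE ≫ pullback.fst g b ≫ g) t = y
    rw [pullback.condition, pullback.lift_snd_assoc]
    exact hι t)
  intro x hx
  obtain ⟨p, hp₁, hp₂⟩ := Scheme.Pullback.exists_preimage_pullback (f := g) (g := b)
    (closedPoint (X'.presheaf.stalk y)) x (Scheme.fromSpecStalk_closedPoint.trans (show b x = y from hx).symm)
  obtain ⟨t, ht⟩ := fibre_subset_range (X'.presheaf.stalk y) hdim (pullback.fst g b) hbl lE k e hE hp₁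
  refine ⟨t, ?_⟩
  show ι t = x
  rw [← hp₂, ← ht]
  exact congrArg (fun m : E ⟶ X => m t) (pullback.lift_snd _ _ _).symm

/-- The properties of a contraction. -/
theorem contraction_props (hE : Models.IsExcCurve ι) (hb : Models.IsContractionOf ι b) :
    IsProper b ∧ Surjective b ∧ (∀ W : X'.Opens, IsIso (b.app W)) ∧
      ∀ w w', b w = b w' → w = w' ∨ (w ∈ Set.range ι ∧ w' ∈ Set.range ι) := by
  obtain ⟨hN, hp, y, hy, hrange, hreg, hdim, hbl⟩ := hb
  obtain ⟨-, k, hk, e, -⟩ := hE
  haveI := hN
  haveI := hp
  haveI := hreg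
  let I := Scheme.IdealSheafData.vanishingIdeal (⟨{y}, hy⟩ : Closeds X')
  haveI hiso : IsIso (b ∣_ I.support.compl) := S1682.result I b hbl
  have hsupp : ∀ z, z ∈ I.support.compl ↔ z ≠ y := fun z => by
    show z ∈ ((I.support : Set X'))ᶜ ↔ _
    simp [I, hy.closure_eq]
  have hι : ∀ t, b (ι t) = y := fun t => hrange.le ⟨t, rfl⟩
  have hfib := fibre_eq ι b y hy hdim hbl hι k e
  refine ⟨hp, ⟨fun z => ?_⟩, ?_, fun w w' h => ?_⟩
  · by_cases hz : z = y
    · obtain ⟨t, ht⟩ : y ∈ Set.range ((ι ≫ b).base : E → X') := hrange.ge rfl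
      exact ⟨ι t, ht.trans hz.symm⟩
    · obtain ⟨v, hv⟩ := (b ∣_ I.support.compl).surjective ⟨z, (hsupp z).mpr hz⟩
      exact ⟨v.1, (morphismRestrict_base_coe b _ v).symm.trans (congrArg Subtype.val hv)⟩
  · have hloc : ∀ z : X', ∃ U : X'.Opens, z ∈ U ∧ ∀ V : X'.Opens, V ≤ U → IsIso (b.app V) := by
      intro z
      have hres : ∀ (U : X'.Opens) (V : X'.Opens), V ≤ U → IsIso ((b ∣_ U).app (U.ι ⁻¹ᵁ V)) → IsIso (b.app V) := by
        intro U V hV h
        rw [morphismRestrict_app] at h
        have h1 : IsIso (b.app (U.ι ''ᵁ (U.ι ⁻¹ᵁ V))) := (isIso_comp_right_iff _ _).mp h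
        have he : U.ι ''ᵁ (U.ι ⁻¹ᵁ V) = V := by
          rw [Scheme.Hom.image_preimage_eq_opensRange_inf, Scheme.Opens.opensRange_ι, inf_eq_right]
          exact hV
        rwa [he] at h1
      by_cases hz : z = y
      · haveI : IsDomain (X'.presheaf.stalk z) := by
          rw [hz]; exact RegLoc6.isDomain_of_isRegularLocalRing _
        obtain ⟨W, hzW, hWint⟩ := H23.FinCondSch.exists_integral_nhd z
        haveI := hWint
        haveI : IsLocallyNoetherian (W : Scheme.{u}) := inferInstance
        let bW := pullback.fst W.ι b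
        have hblW := S1680.result W.ι I b hbl
        have hyW : y ∈ W := hz ▸ hzW
        let y₀ : (W : Scheme.{u}) := ⟨y, hyW⟩
        haveI : IsRegularLocalRing ((W : Scheme.{u}).presheaf.stalk y₀) :=
          haveI : IsRegularLocalRing (X'.presheaf.stalk (W.ι y₀)) := hreg
          IsRegularLocalRing.of_ringEquiv (asIso (W.ι.stalkMap y₀)).commRingCatIsoToRingEquiv
        have hI0 : I.comap W.ι ≠ ⊥ := fun h0 => by
          have h1 : ((I.comap W.ι).support : Set (W : Scheme.{u})) = Set.univ := by rw [h0]; simp
          have h2 : ∀ v : (W : Scheme.{u}), v.1 = y := fun v => by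
            have hv : v ∈ ((I.comap W.ι).support : Set (W : Scheme.{u})) := h1 ▸ Set.mem_univ v
            rw [Scheme.IdealSheafData.support_comap] at hv
            by_contra hne
            exact ((hsupp v.1).mpr hne) hv
          have hsub : Subsingleton (W : Scheme.{u}) := ⟨fun p q => Subtype.ext ((h2 p).trans (h2 q).symm)⟩
          have hd : ringKrullDim ((W : Scheme.{u}).presheaf.stalk y₀) = 2 := by
            rw [← hdim]
            exact (ringKrullDim_eq_of_ringEquiv (asIso (W.ι.stalkMap y₀)).commRingCatIsoToRingEquiv).symm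
          have hle := CurveCohLib.ringKrullDim_stalk_le_topologicalKrullDim (X := (W : Scheme.{u})) y₀
          haveI : Subsingleton (IrreducibleCloseds (W : Scheme.{u})) := ⟨fun p q =>
            IrreducibleCloseds.ext ((Set.subsingleton_of_subsingleton.eq_singleton_of_mem
              p.isIrreducible.nonempty.some_mem).trans
                ((congrArg _ (Subsingleton.elim _ _)).trans (Set.subsingleton_of_subsingleton.eq_singleton_of_mem
                  q.isIrreducible.nonempty.some_mem).symm))⟩
          have h3 : topologicalKrullDim (W : Scheme.{u}) ≤ 0 := Order.krullDim_nonpos_of_subsingleton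
          rw [hd] at hle
          exact absurd (hle.trans h3) (by norm_num)
        obtain ⟨hint, hgen, hres'⟩ := S2348.result (I.comap W.ι) hI0 bW hblW
        haveI := hint
        haveI : IsProper bW := inferInstance
        have hdom : bW (genericPoint _) ⤳ genericPoint (W : Scheme.{u}) := specializes_of_eq hgen
        have hbir : IsIso (bW.stalkMap (genericPoint _)) := by
          rw [ConcreteCategory.isIso_iff_bijective]
          haveI : IsField ((pullback W.ι b).presheaf.stalk (genericPoint _)) :=
            Field.toIsField (pullback W.ι b).functionField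
          refine ⟨?_, fun s => ?_⟩
          · have hf : IsField ((W : Scheme.{u}).presheaf.stalk (bW (genericPoint _))) := by
              rw [hgen]; exact Field.toIsField (W : Scheme.{u}).functionField
            letI := hf.toField
            exact (bW.stalkMap (genericPoint _)).hom.injective
          · obtain ⟨r, hr⟩ := hres'.2 ((pullback W.ι b).residue _ s)
            obtain ⟨r', rfl⟩ := Scheme.residue_surjective _ _ r
            refine ⟨r', ?_⟩
            have hinj : Function.Injective ((pullback W.ι b).residue (genericPoint _)).hom := by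
              letI := ‹IsField ((pullback W.ι b).presheaf.stalk (genericPoint _))›.toField
              exact RingHom.injective _
            refine hinj (Eq.trans ?_ hr)
            exact (congr($(Scheme.residue_residueFieldMap bW (genericPoint _)) r')).symm
        haveI : IsIntegrallyClosed ((W : Scheme.{u}).presheaf.stalk y₀) := by
          haveI := RegLoc6.isDomain_of_isRegularLocalRing ((W : Scheme.{u}).presheaf.stalk y₀)
          exact RegLoc6.isIntegrallyClosed_of_isRegularLocalRing _
        obtain ⟨U, hyU, hU⟩ := ZarConn.exists_nhd_isIso_app bW hdom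
          (fun x _ => ZarConn.ψ_surjective_of_bir bW hgen hbir _ x) y₀ inferInstance
        refine ⟨W.ι ''ᵁ U, ⟨y₀, hyU, hz.symm⟩, fun V hV => hres W V (hV.trans (W.ι_image_le U)) ?_⟩
        have hsq : IsPullback (b ∣_ W) (b ⁻¹ᵁ W).ι W.ι b := isPullback_morphismRestrict b W
        have heq : hsq.isoPullback.hom ≫ bW = b ∣_ W := hsq.isoPullback_hom_fst
        rw [← heq, Scheme.Hom.comp_app]
        haveI : IsIso (bW.app (W.ι ⁻¹ᵁ V)) := hU _ ((W.ι.preimage_mono hV).trans (W.ι.preimage_image_eq U).le)
        infer_instance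
      · refine ⟨I.support.compl, (hsupp z).mpr hz, fun V hV => hres _ V hV ?_⟩
        infer_instance
    choose U hzU hU using hloc
    intro W
    rw [ConcreteCategory.isIso_iff_bijective]
    refine FlatMisc.bijective_app_of_isBasis b (B := {T | ∃ z, T ≤ U z}) ?_ ?_ W
    · refine Opens.isBasis_iff_nbhd.2 fun {T x} hx => ⟨T ⊓ U x, ⟨x, inf_le_right⟩, ⟨hx, hzU x⟩, inf_le_left⟩
    · rintro T ⟨z, hT⟩
      haveI := hU z T hT
      exact ConcreteCategory.bijective_of_isIso (b.app T)
  · by_cases hw : b w = y
    · exact .inr ⟨hfib hw, hfib (h.symm.trans hw)⟩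
    · refine .inl ?_
      have hwU : w ∈ b ⁻¹ᵁ I.support.compl := (hsupp _).mpr hw
      have hw'U : w' ∈ b ⁻¹ᵁ I.support.compl := (hsupp _).mpr (h ▸ hw)
      have := (b ∣_ I.support.compl).isOpenEmbedding.injective (a₁ := ⟨w, hwU⟩) (a₂ := ⟨w', hw'U⟩)
        (Subtype.ext (by rw [morphismRestrict_base_coe, morphismRestrict_base_coe]; exact h))
      exact congrArg Subtype.val this

end Groth.Agent.ContractUP
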