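import Mathlib

/-!
# Factoring morphisms through proper maps with trivial direct image of functions
-/

noncomputable section

set_option autoImplicit false
set_option linter.style.haveILetI false
set_option backward.isDefEq.respectTransparency false
set_option backward.isDefEq.respectTransparency.types false

universe u

open CategoryTheory CategoryTheory.Limits AlgebraicGeometry TopologicalSpace Opposite

namespace Groth.Agent.ContractUP

variable {X X' Y : Scheme.{u}} (b : X ⟶ X')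

/-- Surjective morphisms injective on functions are epimorphisms. -/
theorem hom_ext [Surjective b] (hinj : ∀ W : X'.Opens, Function.Injective (b.app W)) {ψ ψ' : X' ⟶ Y}
    (h : b ≫ ψ = b ≫ ψ') : ψ = ψ' := by
  have hbase : ψ.base = ψ'.base := by
    ext z
    obtain ⟨w, rfl⟩ := b.surjective z
    exact congrArg (fun g : X ⟶ Y => g w) h
  refine Scheme.Hom.ext hbase fun U => ?_
  haveI : Mono (b.app (ψ' ⁻¹ᵁ U)) := ConcreteCategory.mono_of_injective _ (hinj _)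
  rw [← cancel_mono (b.app (ψ' ⁻¹ᵁ U))]
  have h2 := Scheme.Hom.congr_app h U
  rw [Scheme.Hom.comp_app, Scheme.Hom.comp_app] at h2
  rw [Category.assoc, b.naturality, reassoc_of% h2, ← Functor.map_comp]
  exact (congrArg (fun a => ψ'.app U ≫ b.app (ψ' ⁻¹ᵁ U) ≫ X.presheaf.map a) (Subsingleton.elim _ (𝟙 _))).trans
    (by simp)

theorem isIso_restrict_app (hiso : ∀ W : X'.Opens, IsIso (b.app W)) (U : X'.Opens) (W : (U : Scheme.{u}).Opens) :
    IsIso ((b ∣_ U).app W) := by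
  rw [morphismRestrict_app]
  haveI := hiso (U.ι ''ᵁ W)
  infer_instance

theorem exists_factor_open (hiso : ∀ W : X'.Opens, IsIso (b.app W)) (φ : X ⟶ Y) {V : Y.Opens} (hV : IsAffineOpen V)
    (U : X'.Opens) (hU : b ⁻¹ᵁ U ≤ φ ⁻¹ᵁ V) :
    ∃ g : (U : Scheme.{u}) ⟶ Y, (b ∣_ U) ≫ g = (b ⁻¹ᵁ U).ι ≫ φ := by
  let φ' : ((b ⁻¹ᵁ U : X.Opens) : Scheme.{u}) ⟶ V := φ.resLE V (b ⁻¹ᵁ U) hU
  haveI : IsIso (b ∣_ U).appTop := isIso_restrict_app b hiso U ⊤
  haveI : IsAffine (V : Scheme.{u}) := hV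
  let g : (U : Scheme.{u}) ⟶ V :=
    (U : Scheme.{u}).toSpecΓ ≫ Spec.map (φ'.appTop ≫ inv (b ∣_ U).appTop) ≫ (V : Scheme.{u}).isoSpec.inv
  have hg : (b ∣_ U) ≫ g = φ' := by
    rw [← cancel_mono (V : Scheme.{u}).isoSpec.hom]
    simp only [g, Category.assoc, Iso.inv_hom_id, Category.comp_id]
    rw [Scheme.toSpecΓ_naturality_assoc, ← Spec.map_comp, Category.assoc, IsIso.inv_hom_id, Category.comp_id]
    exact (Scheme.toSpecΓ_naturality φ').symm
  refine ⟨g ≫ V.ι, ?_⟩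
  rw [← Category.assoc, hg]
  exact φ.resLE_comp_ι hU

/-- A morphism constant on the fibres of a proper surjection with trivial direct image factors uniquely. -/
theorem existsUnique_factor [IsProper b] [Surjective b] (hiso : ∀ W : X'.Opens, IsIso (b.app W)) (φ : X ⟶ Y)
    (hφ : ∀ w w', b w = b w' → φ w = φ w') : ∃! ψ : X' ⟶ Y, b ≫ ψ = φ := by
  have hinj : ∀ W : X'.Opens, Function.Injective (b.app W) := fun W =>
    haveI := hiso W
    (ConcreteCategory.bijective_of_isIso (b.app W)).1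
  have hU : ∀ z : X', ∃ (U : X'.Opens) (V : Y.Opens), z ∈ U ∧ IsAffineOpen V ∧ b ⁻¹ᵁ U ≤ φ ⁻¹ᵁ V := fun z => by
    obtain ⟨w, rfl⟩ := b.surjective z
    obtain ⟨_, ⟨V, hV, rfl⟩, hwV, -⟩ :=
      Y.isBasis_affineOpens.exists_subset_of_mem_open (Set.mem_univ (φ w)) isOpen_univ
    let U : X'.Opens := ⟨(b '' (φ ⁻¹ᵁ V : X.Opens).1ᶜ)ᶜ, (b.isClosedMap _ (φ ⁻¹ᵁ V).2.isClosed_compl).isOpen_compl⟩
    refine ⟨U, V, ?_, hV, fun a ha => ?_⟩
    · rintro ⟨w', hw', he⟩
      exact hw' (show φ w' ∈ V from hφ w w' he.symm ▸ hwV)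
    · by_contra hna
      exact ha ⟨a, hna, rfl⟩
  choose U V hzU hV hUV using hU
  choose g hg using fun z => exists_factor_open b hiso φ (hV z) (U z) (hUV z)
  have hglue : ∀ z z', X'.homOfLE (inf_le_left : U z ⊓ U z' ≤ U z) ≫ g z =
      X'.homOfLE (inf_le_right : U z ⊓ U z' ≤ U z') ≫ g z' := fun z z' => by
    haveI : Surjective (b ∣_ (U z ⊓ U z')) := IsZariskiLocalAtTarget.restrict ‹_› _
    refine hom_ext (b ∣_ (U z ⊓ U z')) (fun W => ?_) ?_
    · haveI := isIso_restrict_app b hiso _ W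
      exact (ConcreteCategory.bijective_of_isIso ((b ∣_ (U z ⊓ U z')).app W)).1
    have key : ∀ (z₀ : X') (hle : U z ⊓ U z' ≤ U z₀),
        (b ∣_ (U z ⊓ U z')) ≫ X'.homOfLE hle ≫ g z₀ = (b ⁻¹ᵁ (U z ⊓ U z')).ι ≫ φ := fun z₀ hle => by
      have h1 : (b ∣_ (U z ⊓ U z')) ≫ X'.homOfLE hle = X.homOfLE (b.preimage_mono hle) ≫ (b ∣_ U z₀) := by
        rw [← cancel_mono (U z₀).ι]
        simp
      rw [reassoc_of% h1, hg, Scheme.homOfLE_ι_assoc]
    rw [key z inf_le_left, key z' inf_le_right]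
  let 𝒰 : X'.OpenCover := X'.openCoverOfIsOpenCover U (IsOpenCover.mk (eq_top_iff.mpr fun z _ => Opens.mem_iSup.mpr ⟨z, hzU z⟩))
  let ψ : X' ⟶ Y := 𝒰.glueMorphisms g fun z z' => by
    have h := isPullback_opens_inf (U z) (U z')
    show pullback.fst (U z).ι (U z').ι ≫ g z = pullback.snd (U z).ι (U z').ι ≫ g z'
    rw [← cancel_epi h.isoPullback.hom]
    simpa using hglue z z'
  have hψ : ∀ z, (U z).ι ≫ ψ = g z := fun z => 𝒰.ι_glueMorphisms g _ z
  have hbψ : b ≫ ψ = φ := Scheme.hom_ext_of_forall _ _ fun w =>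
    ⟨b ⁻¹ᵁ U (b w), hzU (b w), by rw [← morphismRestrict_ι_assoc, hψ, hg]⟩
  exact ⟨ψ, hbψ, fun ψ' hψ' => hom_ext b hinj (hψ'.trans hbψ.symm)⟩

end Groth.Agent.ContractUP
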