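import Groth.Agent.ContractUP.Basic
import Groth.Agent.ZarConn.AppIso
import Groth.Agent.ZarConn.Basic
import Groth.Agent.H23.RigidAb

/-!
# Contractions of finitely many closed sets are unique
-/

set_option autoImplicit false
set_option linter.style.haveILetI false

universe u

open CategoryTheory CategoryTheory.Limits AlgebraicGeometry TopologicalSpace

namespace Groth.Agent.ContractUP

theorem subsingleton_of_isPreconnected_finite {T : Type*} [TopologicalSpace T] {s C : Set T}
    (hC : C.Finite) (hcl : ∀ a ∈ C, IsClosed ({a} : Set T)) (hs : _root_.IsPreconnected s) (hsC : s ⊆ C) :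
    s.Subsingleton := by
  intro a ha b hb
  by_contra hne
  have hcl' : IsClosed (C \ {a}) := by
    rw [← Set.biUnion_of_singleton (C \ {a})]
    exact (hC.subset Set.sdiff_subset).isClosed_biUnion fun x hx => hcl x hx.1
  obtain ⟨x, -, hxa, hxC⟩ := isPreconnected_closed_iff.1 hs {a} (C \ {a}) (hcl a (hsC ha)) hcl'
    (fun x hx => (em (x = a)).imp (fun h => h) fun h => ⟨hsC hx, h⟩)
    ⟨a, ha, rfl⟩ ⟨b, hb, hsC hb, fun h => hne (Set.mem_singleton_iff.1 h).symm⟩
  exact hxC.2 hxa

variable {X Y Z : Scheme.{u}} [IsIntegral X] [IsIntegral Y] [IsLocallyNoetherian Y]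
  (f : X ⟶ Y) [IsProper f] {E : Set X} {r : ℕ} {C : Fin r → Set X}

omit [IsLocallyNoetherian Y] in
/-- An isomorphism over a nonempty open is birational. -/
theorem birational_of_isIso_restrict {V : Y.Opens} (hV : (V : Set Y).Nonempty) [IsIso (f ∣_ V)] :
    f.base (genericPoint X) = genericPoint Y ∧ IsIso (f.stalkMap (genericPoint X)) ∧ Surjective f := by
  haveI : Surjective (f ∣_ V) := inferInstance
  obtain ⟨v, hv⟩ := hV
  obtain ⟨w, hw⟩ := (f ∣_ V).surjective ⟨v, hv⟩
  have hgV : genericPoint Y ∈ V := ((genericPoint_spec Y).mem_open_set_iff V.isOpen).mpr ⟨v, trivial, hv⟩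
  obtain ⟨⟨a, ha'⟩, ha⟩ := (f ∣_ V).surjective ⟨genericPoint Y, hgV⟩
  have ha1 : f a = genericPoint Y := (morphismRestrict_base_coe f V ⟨a, ha'⟩).symm.trans (congrArg Subtype.val ha)
  have hgen : f (genericPoint X) = genericPoint Y := by
    have h1 : f (genericPoint X) ⤳ genericPoint Y := ha1 ▸ ((genericPoint_spec X).specializes trivial).map f.continuous
    exact (h1.antisymm ((genericPoint_spec Y).specializes trivial)).eq
  refine ⟨hgen, ?_, ⟨fun y => ?_⟩⟩
  · have hmem : genericPoint X ∈ f ⁻¹ᵁ V := show f (genericPoint X) ∈ V by rw [hgen]; exact hgV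
    haveI : IsIso ((f ∣_ V).stalkMap ⟨genericPoint X, hmem⟩) := inferInstance
    exact ((MorphismProperty.isomorphisms CommRingCat).arrow_mk_iso_iff
      (morphismRestrictStalkMap f V ⟨genericPoint X, hmem⟩)).1 ‹_›
  · have hc : IsClosed (Set.range f) := f.isClosedMap.isClosed_range
    exact hc.closure_subset_iff.2 (Set.singleton_subset_iff.2 ⟨_, hgen⟩)
      (specializes_iff_mem_closure.1 ((genericPoint_spec Y).specializes trivial))

/-- Properties of a contraction of the sets `C i`, with normal target. -/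
theorem props_of_contraction (hY : Pi1.IsNormalScheme Y) (hdimY : topologicalKrullDim Y ≠ 0)
    (hC : ∀ i, IsClosed (C i)) (himg : ∀ i, ∃ y, f '' C i = {y})
    (hiso : ∀ V : Y.Opens, (V : Set Y) ∩ f '' (⋃ i, C i) = ∅ → IsIso (f ∣_ V)) :
    (∀ W : Y.Opens, IsIso (f.app W)) ∧ Surjective f ∧
      (∀ y, _root_.IsPreconnected (f ⁻¹' {y})) ∧
      (∀ w w', f w = f w' → f w ∉ f '' (⋃ i, C i) → w = w') := by
  choose y hy using himg
  have hyc : ∀ i, IsClosed ({y i} : Set Y) := fun i => hy i ▸ f.isClosedMap _ (hC i)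
  have hUc : f '' (⋃ i, C i) = ⋃ i, {y i} := by rw [Set.image_iUnion]; simp only [hy]
  let V : Y.Opens := ⟨(f '' (⋃ i, C i))ᶜ, (hUc ▸ isClosed_iUnion_of_finite hyc).isOpen_compl⟩
  haveI := hiso V (Set.compl_inter_self _)
  have hVne : (V : Set Y).Nonempty := by
    refine ⟨genericPoint Y, fun hmem => hdimY ?_⟩
    rw [hUc] at hmem
    obtain ⟨i, hi⟩ := Set.mem_iUnion.1 hmem
    have huniv : ∀ z : Y, z = genericPoint Y := fun z => by
      have := (genericPoint_spec Y).specializes (show z ∈ Set.univ from trivial)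
      exact Set.mem_singleton_iff.1 (this.mem_closed ((Set.mem_singleton_iff.1 hi) ▸ hyc i) rfl)
    haveI : Subsingleton Y := ⟨fun a b => (huniv a).trans (huniv b).symm⟩
    haveI : Unique (IrreducibleCloseds Y) :=
      { default := ⟨Set.univ, IrreducibleSpace.isIrreducible_univ Y, isClosed_univ⟩
        uniq := fun p => IrreducibleCloseds.ext (Set.eq_univ_of_forall fun z =>
          Subsingleton.elim p.isIrreducible.nonempty.some z ▸ p.isIrreducible.nonempty.some_mem) }
    exact Order.krullDim_eq_zero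
  obtain ⟨hgen, hbir, hsurj⟩ := birational_of_isIso_restrict f hVne
  have happ := fun W => ZarConn.isIso_app_of_birational hY f hgen hbir W
  haveI := ZarConn.geometricallyConnected f happ
  refine ⟨happ, hsurj, fun y => H23.RigidAb.isPreconnected_preimage f y, fun w w' h hn => ?_⟩
  have hw : w ∈ f ⁻¹ᵁ V := hn
  have hw' : w' ∈ f ⁻¹ᵁ V := show f w' ∈ V by rw [← h]; exact hn
  exact congrArg Subtype.val ((f ∣_ V).homeomorph.injective (a₁ := ⟨w, hw⟩) (a₂ := ⟨w', hw'⟩)
    (Subtype.ext (by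
      show ((f ∣_ V) ⟨w, hw⟩).1 = ((f ∣_ V) ⟨w', hw'⟩).1
      rw [morphismRestrict_base_coe, morphismRestrict_base_coe]; exact h)))

/-- A morphism collapsing each `C i` factors uniquely through a contraction of the `C i`. -/
theorem existsUnique_factor_contraction (hY : Pi1.IsNormalScheme Y) (hdimY : topologicalKrullDim Y ≠ 0)
    (hC : ∀ i, IsClosed (C i)) (himg : ∀ i, ∃ y, f '' C i = {y})
    (hsat : f ⁻¹' (f '' ⋃ i, C i) = ⋃ i, C i)
    (hiso : ∀ V : Y.Opens, (V : Set Y) ∩ f '' (⋃ i, C i) = ∅ → IsIso (f ∣_ V))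
    (φ : X ⟶ Z) [UniversallyClosed φ] (hφ : ∀ i, ∃ z, φ '' C i = {z}) :
    ∃! ψ : Y ⟶ Z, f ≫ ψ = φ := by
  obtain ⟨happ, hsurj, hconn, hinj⟩ := props_of_contraction f hY hdimY hC himg hiso
  choose z hz using hφ
  refine existsUnique_factor f happ φ fun w w' h => ?_
  by_cases hw : f w ∈ f '' (⋃ i, C i)
  · refine subsingleton_of_isPreconnected_finite (Set.finite_range z) ?_
      ((hconn (f w)).image φ φ.continuous.continuousOn) ?_ ⟨w, rfl, rfl⟩ ⟨w', h.symm, rfl⟩
    · rintro _ ⟨i, rfl⟩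
      exact hz i ▸ φ.isClosedMap _ (hC i)
    · rintro _ ⟨v, hv, rfl⟩
      have hv' : v ∈ f ⁻¹' (f '' ⋃ i, C i) := by
        show f v ∈ f '' (⋃ i, C i)
        rw [Set.mem_singleton_iff.1 hv]; exact hw
      rw [hsat] at hv'
      obtain ⟨i, hi⟩ := Set.mem_iUnion.1 hv'
      exact ⟨i, (Set.mem_singleton_iff.1 (hz i ▸ Set.mem_image_of_mem φ hi)).symm⟩
  · rw [hinj w w' h hw]

end Groth.Agent.ContractUP
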